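import Cfsg.Agent.Pal.NP
import Cfsg.Agent.Char.CtBig
import Cfsg.Agent.Char.DegBasic
import Cfsg.Agent.Solv.ElemAb
import Cfsg.Agent.Solv.NilpotentHall
import Cfsg.Agent.S4468

/-! Primes dividing the order of a solvable linear group over a prime field. -/

set_option autoImplicit false

namespace Cfsg.Lib.Pal

open Subgroup Cfsg.Lib.Solv Cfsg.Lib.Char

variable {X : Type*} [Group X] [Finite X]

theorem not_dvd_fitting {p : ℕ} [Fact p.Prime] (h : pCore p X = ⊥) :
    ¬ p ∣ Nat.card (fittingSubgroup X) := fun hd => by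
  have h1 := fitting_eq_pCore_sup_inf_pPrimeCore p X
  rw [h, bot_sup_eq] at h1
  exact not_dvd_card_pPrimeCore p X (hd.trans (card_dvd_of_le (h1.le.trans inf_le_right)))

theorem exists_central_fitting {p : ℕ} [Fact p.Prime] (h : pCore p X ≠ ⊥) :
    ∃ y : X, orderOf y = p ∧ ∀ g ∈ fittingSubgroup X, Commute g y := by
  obtain ⟨y, h1, h2, h3⟩ := Sq.exists_central (pCore_isPGroup p X) h
  refine ⟨y, h2, fun g hg => ?_⟩
  have h4 : fittingSubgroup X ≤ centralizer {y} := by
    rw [fitting_eq_pCore_sup_inf_pPrimeCore p X]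
    refine sup_le (fun x hx => mem_centralizer_singleton_iff.2 (h3 x hx).symm.eq)
      fun x hx => mem_centralizer_singleton_iff.2 (Sq.commute_of_normal ?_ hx.2 h1).eq
    exact (coprime_card_of_isPGroup (pCore_isPGroup p X) (coprime_card_pPrimeCore p X)).symm
  exact mem_centralizer_singleton_iff.1 (h4 hg)

theorem exists_injective_units {C : Type*} [Group C] [Finite C] [IsCyclic C] :
    ∃ lam : C →* ℂˣ, Function.Injective lam := by
  obtain ⟨g, hg⟩ := IsCyclic.exists_generator (α := C)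
  have h0 : orderOf g ≠ 0 := (orderOf_pos g).ne'
  have hζ := Complex.isPrimitiveRoot_exp _ h0
  have hu : IsPrimitiveRoot (hζ.isUnit h0).unit (orderOf g) :=
    IsPrimitiveRoot.coe_units_iff.1 (by simpa using hζ)
  refine ⟨monoidHomOfForallMemZpowers hg hu.eq_orderOf.symm.dvd,
    (injective_iff_map_eq_one _).2 fun x hx => ?_⟩
  obtain ⟨k, rfl⟩ := (mem_powers_iff_mem_zpowers.2 (hg x))
  simp only [map_pow, monoidHomOfForallMemZpowers_apply_gen] at hx
  exact orderOf_dvd_iff_pow_eq_one.1 ((hu.pow_eq_one_iff_dvd k).1 hx)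

/-- A self-centralising cyclic normal subgroup yields a character whose degree is a multiple of
its index. -/
theorem exists_index_dvd {C : Subgroup X} [hC : C.Normal] [IsCyclic C]
    (h : centralizer (C : Set X) ≤ C) :
    ∃ χ : X → ℂ, IsIrrCharacter X χ ∧ C.index ∣ charDegree χ := by
  obtain ⟨lam, hlam⟩ := exists_injective_units (C := C)
  obtain ⟨χ, h1, h2⟩ := Deg.exists_irr_deg_dvd (N := C) (isIrrCharacter_monoidHom lam)
  refine ⟨χ, h1, (index_dvd_of_le ?_).trans ((dvd_mul_right _ _).trans h2)⟩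
  intro g hg
  refine C.inv_mem_iff.1 (h (inv_mem fun c hc => ?_))
  have h3 := congrFun (mem_inertia.1 hg) ⟨c, hc⟩
  have h4 := congrArg Subtype.val (hlam (Units.ext h3))
  simp only at h4
  rw [← h4, inv_mul_cancel_right, h4]

variable [Group.IsSolvable X] {t : ℕ} [ht : Fact t.Prime] {V : Type*} [AddCommGroup V]
  [Module (ZMod t) V] [Finite V] {ρ : X →* (V ≃ₗ[ZMod t] V)}

theorem exists_sub (hρ : Function.Injective ρ) (h0 : pCore t X = ⊥) {l : ℕ} [hl : Fact l.Prime]
    (hlt : l ≠ t) (h1 : pCore l X = ⊥) :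
    ∃ (H : Subgroup X) (χ : H → ℂ), IsCharacter H χ ∧ (∀ g, χ g = χ 1 → g = 1) ∧
      charDegree χ = Module.finrank (ZMod t) V ∧ ¬ t ∣ Nat.card H ∧ pCore l H = ⊥ ∧
      ¬ l ∣ H.index := by
  obtain ⟨S⟩ : Nonempty (Sylow l X) := inferInstance
  let F := fittingSubgroup X
  have h2 : ¬ t ∣ Nat.card (F ⊔ S : Subgroup X) := by
    rw [← ht.out.coprime_iff_not_dvd, Nat.coprime_comm, ← isPiNum_compl_singleton_iff ht.out]
    refine IsPiNum.card_sup ((isPiNum_compl_singleton_iff ht.out).2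
      (ht.out.coprime_iff_not_dvd.2 (not_dvd_fitting h0)).symm)
      (isPiNum_card_of_isPGroup (by simpa using hlt) S.isPGroup') ?_
    rw [normalizer_eq_top]; exact le_top
  obtain ⟨χ, h3, h4, h5⟩ := Ct.exists_char (ρ := ρ.comp (F ⊔ S : Subgroup X).subtype)
    (hρ.comp (subtype_injective _)) h2
  refine ⟨F ⊔ S, χ, h3, h4, h5, h2, ?_, fun h => S.not_dvd_index
    (h.trans (index_dvd_of_le le_sup_right))⟩
  have hc : (Nat.card (pCore l (F ⊔ S : Subgroup X))).Coprime (Nat.card F) :=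
    coprime_card_of_isPGroup (pCore_isPGroup _ _)
      (hl.out.coprime_iff_not_dvd.2 (not_dvd_fitting h1)).symm
  have hc' : (Nat.card (pCore l (F ⊔ S : Subgroup X))).Coprime
      (Nat.card (F.subgroupOf (F ⊔ S))) := by
    rwa [Nat.card_congr (subgroupOfEquivOfLe le_sup_left).toEquiv]
  refine eq_bot_iff.2 fun x hx => ?_
  have h6 : (x : X) ∈ F := centralizer_fitting_le X fun g hg =>
    congrArg Subtype.val (Sq.commute_of_normal hc' hx
      (b := ⟨g, mem_sup_left hg⟩) hg).symm.eq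
  exact (disjoint_of_coprime_natCard hc').le_bot ⟨hx, h6⟩

theorem bound (hρ : Function.Injective ρ) (h0 : pCore t X = ⊥) {l : ℕ} [hl : Fact l.Prime]
    (hlt : l ≠ t) (h1 : pCore l X = ⊥) (h2 : l ∣ Nat.card X) {n : ℕ}
    (hn : Module.finrank (ZMod t) V = n) :
    l ≤ n + 1 ∧ (l = n + 1 → (∃ k : ℕ, n = 2 ^ k) ∧ ¬ t ∣ n ∧ ¬ l ^ 2 ∣ Nat.card X) := by
  obtain ⟨H, χ, h3, h4, h5, h6, h7, h8⟩ := exists_sub hρ h0 hlt h1
  have hs := IsPSolvable.of_isSolvable l H
  have h9 : l ∣ Nat.card H := by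
    rw [← H.card_mul_index] at h2
    exact (hl.out.dvd_mul.1 h2).resolve_right h8
  obtain ⟨S⟩ : Nonempty (Sylow l H) := inferInstance
  have h10 : ¬ (S : Subgroup H).Normal := fun h => by
    rw [pCore_eq_of_normal_sylow S h] at h7
    exact S.not_dvd_index (by rwa [h7, index_bot])
  have key := Agent.S4468.result χ h3 h4 n (h5.trans hn) l hl.out hs
  refine ⟨by
    by_contra h
    have := (key (by omega) S h10).1
    omega, fun h => ?_⟩
  obtain ⟨-, h11, h12⟩ := key h.ge S h10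
  refine ⟨h11, fun h13 => h6 (h13.trans (hn ▸ h5 ▸ Deg.deg_dvd_card h12)), fun h13 => ?_⟩
  have hf : charKer χ = ⊥ := eq_bot_iff.2 fun g hg => h4 g (apply_of_mem_charKer hg)
  have h14 := factorization_index_pCore_le hs h3 hf (n := n) (M := n + 1)
    (hn ▸ h5 ▸ Deg.apply_one_eq h3) (by omega)
  have h15 : l ^ 2 ∣ Nat.card H := by
    rw [← H.card_mul_index] at h13
    exact (Nat.Coprime.pow_left 2 (hl.out.coprime_iff_not_dvd.2 h8)).dvd_of_dvd_mul_right h13
  have hn0 : 0 < n := by have := hl.out.two_le; omega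
  rw [h7, index_bot, Finset.sum_range_succ', Finset.sum_eq_zero fun i _ => Nat.div_eq_of_lt (by
    have : 1 < l ^ (i + 1) := Nat.one_lt_pow (by omega) hl.out.one_lt
    rw [show l - 1 = n by omega]
    nlinarith), show l - 1 = n by omega, pow_zero, mul_one, Nat.div_self hn0] at h14
  have := (hl.out.pow_dvd_iff_le_factorization Nat.card_pos.ne').1 h15
  omega

omit [Group.IsSolvable X] in
theorem isCyclic_of_ppd [Nontrivial V] (hρ : Function.Injective ρ) {u : ℕ} [hu : Fact u.Prime]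
    (hut : u ≠ t) (h1 : pCore u X ≠ ⊥)
    (h : ∀ i, 1 ≤ i → i < Module.finrank (ZMod t) V → ¬ u ∣ t ^ i - 1) :
    IsCyclic (fittingSubgroup X) := by
  obtain ⟨y, h2, h3⟩ := exists_central_fitting h1
  exact ((Ct.irr_of_ppd hρ hu.out hut h2 h).cyc hρ h3).1

end Cfsg.Lib.Pal
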