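import Cfsg.Agent.Pal.Bound
import Cfsg.Agent.PrimeOne.LtFinal
import Cfsg.Agent.S3430

/-! Solvable linear groups whose point stabilisers contain a unique Sylow subgroup. -/

set_option autoImplicit false

namespace Cfsg.Lib.Pal

open Subgroup Cfsg.Lib.Solv Cfsg.Lib.Char

variable {X W : Type*} [Group X] [Finite X] [Group W] [Finite W] {φ : X →* MulAut W}
  {l : ℕ} [hl : Fact l.Prime]

omit [Finite W] in
theorem NP.one_lt_of_dvd (h : NP φ l) (hφ : Function.Injective φ) (hd : l ∣ Nat.card X) :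
    1 < Nat.card (Sylow l X) := by
  obtain ⟨g, hg⟩ := exists_prime_orderOf_dvd_card' l hd
  refine h.one_lt (g := g) ⟨1, by rw [pow_one, ← hg, pow_orderOf_eq_one]⟩ fun h1 => ?_
  rw [(injective_iff_map_eq_one _).1 hφ g h1, orderOf_one] at hg
  exact hl.out.one_lt.ne hg

omit [Finite W] hl in
theorem NP.pCore_eq_bot (h : NP φ l) (hφ : Function.Injective φ) : pCore l X = ⊥ := by
  refine eq_bot_iff.2 fun g hg => (injective_iff_map_eq_one _).1 hφ g (MulEquiv.ext fun w => ?_)
  by_cases hw : w = 1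
  · rw [hw, map_one, map_one]
  · obtain ⟨T, hT, -⟩ := h w hw
    exact hT g (pCore_le_sylow T hg)

variable [Nontrivial W] {t : ℕ} [ht : Fact t.Prime]

theorem NP.eq_top (h : NP φ l) (h1 : 1 < Nat.card (Sylow l X)) (hW : IsPGroup t W)
    {A : Subgroup W} (hA : ∀ g, ∀ w ∈ A, φ g w ∈ A) (h0 : A ≠ ⊥) : A = ⊤ :=
  eq_top_of_le_card _ (by
    rw [h.card_eq h h1 hA (B := ⊤) (fun _ _ _ => trivial) (hW.to_subgroup _) (hW.to_subgroup _) h0
      top_ne_bot, card_top])

omit [Finite X] in
theorem fx_ne_bot (hW : IsPGroup t W) {P : Subgroup X} (hP : IsPGroup t P) : fx φ P ≠ ⊥ := by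
  let _ : MulAction P W := MulAction.compHom W (φ.comp P.subtype)
  obtain ⟨n, hn⟩ := IsPGroup.iff_card.1 hW
  have h1 : t ∣ Nat.card W := by
    rw [hn]
    refine dvd_pow_self t fun h => ?_
    rw [h, pow_zero] at hn
    exact Finite.one_lt_card.ne' hn
  obtain ⟨w, hw, hw1⟩ := hP.exists_fixed_point_of_prime_dvd_card_of_fixed_point W h1 (a := 1)
    fun g => map_one (φ g)
  exact fun h => hw1 (mem_bot.1 (h ▸ fun g hg => hw ⟨g, hg⟩ : w ∈ (⊥ : Subgroup W))).symm

theorem NP.pCore_char (h : NP φ l) (hφ : Function.Injective φ) (h1 : 1 < Nat.card (Sylow l X))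
    (hW : IsPGroup t W) : pCore t X = ⊥ := by
  have h2 := h.eq_top h1 hW (A := fx φ (pCore t X)) (fun g w hw x hx => by
    have := hw _ ((inferInstance : (pCore t X).Normal).conj_mem' x hx g)
    rw [map_mul, map_mul, MulAut.mul_apply, MulAut.mul_apply, map_inv, MulAut.inv_apply,
      MulEquiv.symm_apply_eq] at this
    exact this) (fx_ne_bot hW (pCore_isPGroup t X))
  exact eq_bot_iff.2 fun g hg => (injective_iff_map_eq_one _).1 hφ g
    (MulEquiv.ext fun w => (h2.ge (mem_top w)) g hg)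

theorem le_of_ppd {t u n : ℕ} (ht : t.Prime) (hu : u.Prime) (hn : 0 < n) (h1 : u ∣ t ^ n - 1)
    (h2 : ∀ i, 1 ≤ i → i < n → ¬ u ∣ t ^ i - 1) : u ≠ t ∧ n + 1 ≤ u := by
  have h3 : u ≠ t := by
    rintro rfl
    have := (Nat.dvd_sub_iff_right (Nat.one_le_pow _ _ hu.pos) (dvd_pow_self u hn.ne')).1 h1
    exact hu.not_dvd_one this
  refine ⟨h3, ?_⟩
  by_contra h4
  refine h2 (u - 1) (by have := hu.two_le; omega) (by omega) ?_
  have := Nat.ModEq.pow_totient ((Nat.coprime_primes ht hu).2 h3.symm)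
  rw [Nat.totient_prime hu] at this
  exact (Nat.modEq_iff_dvd' (Nat.one_le_pow _ _ ht.pos)).1 this.symm

/-- If `l` is not the characteristic, the Fitting subgroup is cyclic. -/
theorem NP.isCyclic [Group.IsSolvable X] [ElemAb t W] (h : NP φ l) (hφ : Function.Injective φ)
    (hd : l ∣ Nat.card X) (hlt : l ≠ t) : IsCyclic (fittingSubgroup X) := by
  by_contra hc
  let ρ : X →* (Vec t W ≃ₗ[ZMod t] Vec t W) := (Vec.autEquiv t W).toMonoidHom.comp φ
  have hρ : Function.Injective ρ := (Vec.autEquiv t W).injective.comp hφ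
  have hW := ElemAb.isPGroup t W
  have h1 := h.one_lt_of_dvd hφ hd
  have h2 := h.pCore_char hφ h1 hW
  obtain ⟨S⟩ : Nonempty (Sylow l X) := inferInstance
  obtain ⟨n, m, e1, -, h3, h4, h5⟩ := h.data h1 (W₀ := ⊤) (fun _ _ _ => trivial)
    (hW.to_subgroup _) top_ne_bot S
  have hn : Module.finrank (ZMod t) (Vec t W) = n := Vec.finrank_eq_of_card (by rwa [card_top] at e1)
  have h6 := card_sylow_modEq_one l X
  have h7 : Nat.card (Sylow l X) ∣ Nat.card X := S.card_dvd_index.trans (index_dvd_card _)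
  have h8 := PrimeOne.Lt.pow_modEq_of_isPSolvable X (IsPSolvable.of_isSolvable l X) 3
    Nat.prime_three
  obtain ⟨h9, h10⟩ := bound hρ h2 hlt (h.pCore_eq_bot hφ) hd hn
  generalize Nat.card (Sylow l X) = N at *
  have key : ∀ u : ℕ, u.Prime → u ∣ t ^ n - 1 → (∀ i, 1 ≤ i → i < n → ¬ u ∣ t ^ i - 1) →
      u = n + 1 ∧ (∃ k : ℕ, n = 2 ^ k) ∧ ¬ t ∣ n ∧ ¬ u ^ 2 ∣ t ^ n - 1 := fun u hu a b => by
    have := Fact.mk hu
    obtain ⟨c, d⟩ := le_of_ppd ht.out hu (by omega) a b
    have e : (t ^ m - 1).Coprime u := (hu.coprime_iff_not_dvd.2 (b m h3 h4)).symm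
    have f : pCore u X = ⊥ := by
      by_contra f
      exact hc (isCyclic_of_ppd hρ c f (hn ▸ b))
    obtain ⟨i, j⟩ := bound hρ h2 c f ((e.symm.dvd_of_dvd_mul_right (h5 ▸ a)).trans h7) hn
    obtain ⟨j1, j2, j3⟩ := j (by omega)
    exact ⟨by omega, j1, j2, fun k =>
      j3 (((e.symm.pow_left 2).dvd_of_dvd_mul_right (h5 ▸ k)).trans h7)⟩
  have h2k : ∀ a : ℕ, a ≤ 32 → (∃ k : ℕ, a = 2 ^ k) → a ∣ 32 := by
    rintro _ ha ⟨k, rfl⟩
    exact pow_dvd_pow 2 ((Nat.pow_le_pow_iff_right one_lt_two).1 (show 2 ^ k ≤ 2 ^ 5 from ha))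
  have hl2 := hl.out.two_le
  by_cases c1 : n = 2
  · subst c1
    obtain rfl : m = 1 := by omega
    have := ht.out.two_le
    obtain ⟨s, rfl⟩ : ∃ s, t = s + 2 := ⟨t - 2, by omega⟩
    have h11 : N = s + 2 + 1 := by
      rw [pow_one, show (s + 2) ^ 2 - 1 = (s + 3) * (s + 1) from Nat.sub_eq_of_eq_add (by ring)]
        at h5
      exact (Nat.eq_of_mul_eq_mul_right (by omega) h5).symm
    rw [h11] at h6
    have h12 := (Nat.modEq_iff_dvd' (by omega)).1 h6.symm
    exact hlt ((Nat.prime_dvd_prime_iff_eq hl.out ht.out).1 h12)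
  by_cases c2 : t = 2 ∧ (n = 4 ∨ n = 6 ∨ n = 10 ∨ n = 12 ∨ n = 18)
  · obtain ⟨rfl, rfl | rfl | rfl | rfl | rfl⟩ := c2
    · exact (key 5 (by norm_num) (by norm_num) fun i _ _ => by
        interval_cases i <;> norm_num).2.2.1 (by norm_num)
    · have hp := hl.out
      have h11 : l ≠ 7 := fun e => absurd (h2k 6 (by norm_num) (h10 e).1) (by norm_num)
      have h12 : N = 63 ∨ N = 21 ∨ N = 9 := by interval_cases m <;> omega
      have h13 : Nat.factorization 21 3 = 1 := by
        rw [show 21 = 3 * 7 from rfl, Nat.factorization_mul (by norm_num) (by norm_num)]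
        simp [Nat.prime_three.factorization, (by norm_num : Nat.Prime 7).factorization]
      interval_cases l
      · exact hlt rfl
      · rcases h12 with rfl | rfl | rfl <;> exact absurd h6 (by decide)
      · norm_num at hp
      · rcases h12 with rfl | rfl | rfl
        · exact absurd h6 (by decide)
        · rw [h13] at h8; exact absurd h8 (by decide)
        · exact absurd h6 (by decide)
      · norm_num at hp
      · exact h11 rfl
    · exact absurd (h2k _ (by norm_num) (key 11 (by norm_num) (by norm_num) fun i _ _ => by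
        interval_cases i <;> norm_num).2.1) (by norm_num)
    · exact absurd (h2k _ (by norm_num) (key 13 (by norm_num) (by norm_num) fun i _ _ => by
        interval_cases i <;> norm_num).2.1) (by norm_num)
    · exact absurd (h2k _ (by norm_num) (key 19 (by norm_num) (by norm_num) fun i _ _ => by
        interval_cases i <;> norm_num).2.1) (by norm_num)
  by_cases c3 : t = 3 ∧ (n = 4 ∨ n = 6)
  · obtain ⟨rfl, rfl | rfl⟩ := c3
    · have hp := hl.out
      have h12 : N = 40 ∨ N = 10 := by interval_cases m <;> omega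
      interval_cases l
      · rcases h12 with rfl | rfl <;> exact absurd h6 (by decide)
      · exact hlt rfl
      · norm_num at hp
      · rcases h12 with rfl | rfl <;> exact absurd h6 (by decide)
    · exact absurd (h2k _ (by norm_num) (key 7 (by norm_num) (by norm_num) fun i _ _ => by
        interval_cases i <;> norm_num).2.1) (by norm_num)
  by_cases c4 : t = 5 ∧ n = 6
  · obtain ⟨rfl, rfl⟩ := c4
    exact absurd (h2k _ (by norm_num) (key 7 (by norm_num) (by norm_num) fun i _ _ => by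
        interval_cases i <;> norm_num).2.1) (by norm_num)
  obtain ⟨u, hu, a, b, c⟩ := Agent.S3430.result t n ht.out.two_le (by omega) (fun e => c1 e.1)
    c2 c3 c4
  obtain ⟨d, -, -, e⟩ := key u hu a b
  rcases c with c | c
  · omega
  · exact e c

/-- Two primes with the property are adjacent. -/
theorem NP.adj [Group.IsSolvable X] [ElemAb t W] {q r : ℕ} [hq : Fact q.Prime] [hr : Fact r.Prime]
    (hqr : q ≠ r) (h : NP φ q) (h' : NP φ r) (hφ : Function.Injective φ)
    (dq : q ∣ Nat.card X) (dr : r ∣ Nat.card X) :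
    ∃ χ : X → ℂ, IsIrrCharacter X χ ∧ q * r ∣ charDegree χ := by
  have hc : IsCyclic (fittingSubgroup X) := by
    by_cases e : q = t
    · exact h'.isCyclic hφ dr fun e' => hqr (e.trans e'.symm)
    · exact h.isCyclic hφ dq e
  obtain ⟨χ, h1, h2⟩ := exists_index_dvd (centralizer_fitting_le X)
  rw [← (fittingSubgroup X).card_mul_index] at dq dr
  exact ⟨χ, h1, (((Nat.coprime_primes hq.out hr.out).2 hqr).mul_dvd_of_dvd_of_dvd
    ((hq.out.dvd_mul.1 dq).resolve_left (not_dvd_fitting (h.pCore_eq_bot hφ)))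
    ((hr.out.dvd_mul.1 dr).resolve_left (not_dvd_fitting (h'.pCore_eq_bot hφ)))).trans h2⟩

end Cfsg.Lib.Pal
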