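import Cfsg.Agent.Pal.Cyc
import Cfsg.Agent.Char.RelGraph
import Cfsg.Agent.Char.DegIto
import Cfsg.Agent.Char.InvOver

/-! From non-adjacent primes to actions with unique Sylow subgroups in the stabilisers. -/

set_option autoImplicit false

namespace Cfsg.Lib.Pal

open Subgroup Cfsg.Lib.Solv Cfsg.Lib.Char Cfsg.Lib.Char.RelG

/-- Some irreducible character has degree divisible by `a`. -/
def Rho (G : Type*) [Group G] (a : ℕ) : Prop :=
  ∃ χ : G → ℂ, IsIrrCharacter G χ ∧ a ∣ charDegree χ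

variable {G : Type*} [Group G]

theorem Rho.of_surj {X : Type*} [Group X] {a : ℕ} (h : Rho X a) (f : G →* X)
    (hf : Function.Surjective f) : Rho G a := by
  obtain ⟨χ, h1, h2⟩ := h
  exact ⟨_, h1.comp_of_surjective f hf, Deg.deg_comp f χ ▸ h2⟩

theorem Rho.comm {a b : ℕ} (h : Rho G (a * b)) : Rho G (b * a) := mul_comm a b ▸ h

variable {N : Subgroup G} [hN : N.Normal]

/-- `θ` extends to its inertia group. -/
def Ext (N : Subgroup G) [N.Normal] (θ : N → ℂ) : Prop :=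
  ∃ ξ : inertia N θ → ℂ, IsIrrCharacter _ ξ ∧
    ∀ n : N.subgroupOf (inertia N θ), ξ n = θ ⟨(n : inertia N θ), n.2⟩

theorem ext_of_compl {U : Subgroup G} (h : IsComplement' N U) (lam : Lin N) : Ext N (lin lam) := by
  choose m u hmu using fun g : G => (h.existsUnique g).exists.imp fun x hx =>
    (⟨x.2, hx⟩ : ∃ u : U, (x.1 : G) * u = g)
  have h1 : ∀ (g : G) (a : N) (b : U), (a : G) * b = g → (m g).1 = a := fun g a b e =>
    congrArg Prod.fst ((h.existsUnique g).unique (y₁ := ((m g).1, u g)) (y₂ := (a, b)) (hmu g) e)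
  let η : inertia N (lin lam) →* ℂˣ := MonoidHom.mk' (fun g => lam.hom (m g).1) fun a b => by
    have h2 : (u a : G) ∈ inertia N (lin lam) := by
      rw [eq_inv_mul_of_mul_eq (hmu a)]
      exact mul_mem (inv_mem (le_inertia (lin_irr lam).isClassFunction (m a).1.2)) a.2
    rw [h1 _ ((m a).1 * ⟨u a * (m b).1 * (u a : G)⁻¹, hN.conj_mem _ (m b).1.2 _⟩) (u a * u b) (by
      conv_rhs => rw [coe_mul, ← hmu a, ← hmu b]
      simp [mul_assoc]), map_mul]
    exact congrArg _ (Units.ext (mem_inertia'.1 h2 (m b).1))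
  refine ⟨fun g => (η g : ℂ), isIrrCharacter_monoidHom η, fun n => ?_⟩
  change ((lam.hom (m _).1 : ℂˣ) : ℂ) = _
  rw [h1 _ ⟨(n : inertia N (lin lam)), n.2⟩ 1 (by simp)]
  rfl

variable (N) in
/-- The action on linear characters. -/
noncomputable def dl : G →* MulAut (Lin N) :=
  letI := homAct N
  MulDistribMulAction.toMulAut G (Lin N)

theorem dl_eq_iff {g : G} {lam : Lin N} : dl N g lam = lam ↔ g ∈ inertia N (lin lam) := by
  rw [← stabilizer_homAct]; rfl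

theorem dl_hom (g : G) (lam : Lin N) (n : N) :
    (dl N g lam).hom n = lam.hom ⟨g⁻¹ * n * g, hN.conj_mem' n n.2 g⟩ :=
  congrArg lam.hom (Subtype.ext (by simp))

theorem mem_fx_dl {K : Subgroup G} {lam : Lin N} :
    lam ∈ fx (dl N) K ↔ K ≤ inertia N (lin lam) :=
  forall₂_congr fun _ _ => dl_eq_iff

theorem hom_eq_one_of_le {K : Subgroup G} {lam : Lin N} (h : K ≤ inertia N (lin lam)) {x : N}
    (hx : (x : G) ∈ ⁅N, K⁆) : lam.hom x = 1 := by
  have : ⁅N, K⁆ ≤ lam.hom.ker.map N.subtype := commutator_le.2 fun a ha b hb => by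
    refine ⟨⟨a, ha⟩ * ⟨b * a * b⁻¹, hN.conj_mem a ha b⟩⁻¹, ?_, by
      simp [commutatorElement_def, mul_assoc]⟩
    have h1 : lam.hom ⟨b * a * b⁻¹, hN.conj_mem a ha b⟩ = lam.hom ⟨a, ha⟩ :=
      Units.ext (mem_inertia'.1 (h hb) ⟨a, ha⟩)
    rw [SetLike.mem_coe, MonoidHom.mem_ker, map_mul, map_inv, h1, mul_inv_cancel]
  obtain ⟨y, hy, e⟩ := this hx
  exact (Subtype.ext e : y = x) ▸ hy

omit hN in
theorem elemAb_lin {H : Type*} [Group H] {t : ℕ} (h : ∀ x : H, x ^ t = 1) : ElemAb t (Lin H) :=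
  ⟨mul_comm, fun a => MonoidHom.ext fun x => by
    change a.hom x ^ t = 1
    rw [← map_pow, h, map_one]⟩

omit hN in
theorem isPGroup_lin {H : Type*} [Group H] [Finite H] {t : ℕ} [Fact t.Prime] (h : IsPGroup t H) :
    IsPGroup t (Lin H) := fun a => by
  obtain ⟨k, hk⟩ := IsPGroup.iff_card.1 h
  exact ⟨k, MonoidHom.ext fun x => by
    change a.hom x ^ t ^ k = 1
    rw [← map_pow, ← hk, pow_card_eq_one', map_one]⟩

variable [Finite G]

theorem rho_of_index {θ : N → ℂ} (hθ : IsIrrCharacter N θ) {a b : ℕ} (hab : a.Coprime b)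
    (ha : a ∣ (inertia N θ).index * charDegree θ) (hb : b ∣ (inertia N θ).index * charDegree θ) :
    Rho G (a * b) := by
  obtain ⟨χ, h1, h2⟩ := Deg.exists_irr_deg_dvd hθ
  exact ⟨χ, h1, (hab.mul_dvd_of_dvd_of_dvd ha hb).trans h2⟩

variable [Group.IsSolvable G] {l : ℕ} [hl : Fact l.Prime]

theorem exists_sylow {θ : N → ℂ} (hθ : IsIrrCharacter N θ) (he : Ext N θ) {a : ℕ}
    (hal : a.Coprime l) (ha : a ∣ (inertia N θ).index * charDegree θ) (h : ¬ Rho G (a * l)) :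
    ∃ S : Sylow l (G ⧸ N), (S : Subgroup (G ⧸ N)) ≤ (inertia N θ).map (QuotientGroup.mk' N) ∧
      (∀ x ∈ (inertia N θ).map (QuotientGroup.mk' N), (∃ k : ℕ, x ^ l ^ k = 1) →
        x ∈ (S : Subgroup (G ⧸ N))) ∧
      ∀ x ∈ (S : Subgroup (G ⧸ N)), ∀ y ∈ (S : Subgroup (G ⧸ N)), x * y = y * x := by
  obtain ⟨ξ, h1, h2⟩ := he
  let T := (inertia N θ).map (QuotientGroup.mk' N)
  let j : inertia N θ ⧸ N.subgroupOf (inertia N θ) →* T :=
    QuotientGroup.lift _ ((QuotientGroup.mk' N).subgroupMap (inertia N θ)) fun x hx =>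
      Subtype.ext ((QuotientGroup.eq_one_iff _).2 hx)
  have hj : Function.Surjective j := fun x => by
    obtain ⟨y, rfl⟩ := (QuotientGroup.mk' N).subgroupMap_surjective (inertia N θ) x
    exact ⟨y, rfl⟩
  have h3 : ∀ ψ, IsIrrCharacter T ψ → ¬ l ∣ charDegree ψ := fun ψ hψ hd => by
    obtain ⟨χ, h4, -, h5⟩ := Deg.exists_deg_eq_of_ext hθ h1 h2 (hψ.comp_of_surjective j hj)
    refine h ⟨χ, h4, ?_⟩
    rw [h5, Deg.deg_comp, mul_comm (charDegree ψ), ← mul_assoc]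
    exact mul_dvd_mul ha hd
  have h4 : ¬ l ∣ T.index := fun hd => h (rho_of_index hθ hal ha
    ((hd.trans (index_map_dvd _ (QuotientGroup.mk'_surjective N))).mul_right _))
  have hs := IsPSolvable.of_isSolvable l T
  obtain ⟨S⟩ : Nonempty (Sylow l T) := inferInstance
  have h5 : ¬ l ∣ ((S : Subgroup T).map T.subtype).index := by
    rw [index_map_subtype]
    exact hl.out.not_dvd_mul S.not_dvd_index h4
  refine ⟨(S.isPGroup'.map T.subtype).toSylow h5, map_subtype_le _, fun x hx hk => ?_, ?_⟩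
  · have h6 := (pCl_iff_normal S).2 (Deg.ito_normal T hs h3 S) ⟨x, hx⟩
      (hk.imp fun k hk => Subtype.ext hk)
    exact ⟨⟨x, hx⟩, pCore_le_sylow S h6, rfl⟩
  · rintro _ ⟨x, hx, rfl⟩ _ ⟨y, hy, rfl⟩
    exact congrArg Subtype.val (Deg.ito_comm hs h3 S x hx y hy)

theorem np_of {W : Type*} [Group W] {φ : G ⧸ N →* MulAut W} {a : ℕ} (hal : a.Coprime l)
    (h : ¬ Rho G (a * l)) (hφ : ∀ w, w ≠ 1 → ∃ θ : N → ℂ, IsIrrCharacter N θ ∧ Ext N θ ∧
      a ∣ (inertia N θ).index * charDegree θ ∧ ∀ g : G, g ∈ inertia N θ ↔ φ g w = w) :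
    NP φ l := fun w hw => by
  obtain ⟨θ, h1, h2, h3, h4⟩ := hφ w hw
  obtain ⟨S, h5, h6, -⟩ := exists_sylow h1 h2 hal h3 h
  refine ⟨S, fun g hg => ?_, fun g hg e => h6 g ?_ hg⟩
  · obtain ⟨x, hx, rfl⟩ := h5 hg
    exact (h4 x).1 hx
  · obtain ⟨x, rfl⟩ := QuotientGroup.mk_surjective g
    exact ⟨x, (h4 x).2 e, rfl⟩

omit [Finite G] [Group.IsSolvable G] in
theorem dvd_card_quotient_ker {W : Type*} [Group W] {φ : G →* MulAut W} {g : G}
    (hg : ∃ k : ℕ, g ^ l ^ k = 1) (h : φ g ≠ 1) : l ∣ Nat.card (G ⧸ φ.ker) := by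
  obtain ⟨k, hk⟩ := hg
  have h1 : (g : G ⧸ φ.ker) ^ l ^ k = 1 := by rw [← QuotientGroup.mk_pow, hk]; rfl
  obtain ⟨j, -, hj⟩ := (Nat.dvd_prime_pow hl.out).1 (orderOf_dvd_of_pow_eq_one h1)
  refine Dvd.dvd.trans ?_ (orderOf_dvd_natCard (g : G ⧸ φ.ker))
  rw [hj]
  refine dvd_pow_self _ fun h0 => h ?_
  rw [h0, pow_zero, orderOf_eq_one_iff, QuotientGroup.eq_one_iff] at hj
  exact hj

theorem rho_of_np {W : Type*} [Group W] [Finite W] [Nontrivial W] {t : ℕ} [Fact t.Prime]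
    [ElemAb t W] {φ : G →* MulAut W} {q r : ℕ} [Fact q.Prime] [Fact r.Prime] (hqr : q ≠ r)
    (hq : NP φ q) (hr : NP φ r) {x y : G} (hx : ∃ k : ℕ, x ^ q ^ k = 1) (hx' : φ x ≠ 1)
    (hy : ∃ k : ℕ, y ^ r ^ k = 1) (hy' : φ y ≠ 1) : Rho G (q * r) :=
  Rho.of_surj (NP.adj (t := t) hqr
    (hq.of_surj (QuotientGroup.mk'_surjective φ.ker) (φ' := QuotientGroup.kerLift φ) fun _ => rfl)
    (hr.of_surj (QuotientGroup.mk'_surjective φ.ker) fun _ => rfl)
    (QuotientGroup.kerLift_injective φ) (dvd_card_quotient_ker hx hx')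
    (dvd_card_quotient_ker hy hy')) _ (QuotientGroup.mk'_surjective φ.ker)

omit [Group.IsSolvable G] in
theorem NP.pCl {W : Type*} [Group W] [Nontrivial W] {φ : G →* MulAut W} (h : NP φ l)
    (h1 : ∀ g : G, (∃ k : ℕ, g ^ l ^ k = 1) → φ g = 1) : PCl l G := by
  obtain ⟨w, hw⟩ := exists_ne (1 : W)
  obtain ⟨S, -, hS⟩ := h w hw
  have h2 : ∀ g : G, (∃ k : ℕ, g ^ l ^ k = 1) → g ∈ (S : Subgroup G) := fun g hg =>
    hS g hg (by rw [h1 g hg]; rfl)
  refine (pCl_iff_normal S).2 ⟨fun x hx g => h2 _ ?_⟩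
  obtain ⟨k, hk⟩ := S.isPGroup' ⟨x, hx⟩
  exact ⟨k, by rw [conj_pow, show x ^ l ^ k = 1 from congrArg Subtype.val hk]; simp⟩

theorem rho_of_not_pCl (h : ¬ PCl l G) : Rho G l := by
  by_contra h1
  obtain ⟨S⟩ : Nonempty (Sylow l G) := inferInstance
  exact h ((pCl_iff_normal S).2 (Deg.ito_normal G (IsPSolvable.of_isSolvable l G)
    (fun χ hχ hd => h1 ⟨χ, hχ, hd⟩) S))

omit [Group.IsSolvable G] in
theorem normal_sup_of_pCl (h : PCl l (G ⧸ N)) (S : Sylow l G) : ((S : Subgroup G) ⊔ N).Normal :=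
  Deg.normal_sup_of_normal_mapSurjective N S ((pCl_iff_normal _).1 h)

omit [Group.IsSolvable G] in
theorem not_rho_of_comm (S : Sylow l G) [(S : Subgroup G).Normal]
    (h : ∀ a ∈ (S : Subgroup G), ∀ b ∈ (S : Subgroup G), a * b = b * a) : ¬ Rho G l := by
  rintro ⟨χ, h1, h2⟩
  exact S.not_dvd_index (h2.trans (Deg.ito h1 S h))

omit [Group.IsSolvable G] in
theorem sup_le_of_not_dvd (S : Sylow l G) [((S : Subgroup G) ⊔ N).Normal] {T : Subgroup G}
    (hT : N ≤ T) (h : ¬ l ∣ T.index) : (S : Subgroup G) ⊔ N ≤ T := by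
  obtain ⟨k, hk⟩ := IsPGroup.iff_card.1 S.isPGroup'
  obtain ⟨j, -, hj⟩ := (Nat.dvd_prime_pow hl.out).1
    (show N.relIndex S ∣ l ^ k from hk ▸ relIndex_dvd_card _ _)
  exact Deg.le_of_not_dvd_index hT (k := j) (by rw [relIndex_sup_right, hj]) h

end Cfsg.Lib.Pal
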