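import Cfsg.Agent.Pal.Two

/-! The three primes theorem for character degrees of solvable groups. -/

set_option autoImplicit false

namespace Cfsg.Lib.Pal

open Subgroup Cfsg.Lib.Solv Cfsg.Lib.Char Cfsg.Lib.Char.RelG
open scoped commutatorElement

universe u

section
variable {G : Type*} [Group G]

/-- The elements of `P` centralising `K` modulo `N`. -/
def cm (P K N : Subgroup G) [N.Normal] : Subgroup G :=
  P ⊓ (centralizer (K.map (QuotientGroup.mk' N) : Set (G ⧸ N))).comap (QuotientGroup.mk' N)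

instance cm_normal (P K N : Subgroup G) [P.Normal] [hK : K.Normal] [N.Normal] :
    (cm P K N).Normal := by
  have := hK.map _ (QuotientGroup.mk'_surjective N)
  unfold cm
  infer_instance

theorem mem_cm {P K N : Subgroup G} [N.Normal] {x : G} :
    x ∈ cm P K N ↔ x ∈ P ∧ ∀ y ∈ K, ⁅y, x⁆ ∈ N := by
  refine and_congr_right fun _ => ⟨fun h y hy => ?_, ?_⟩
  · exact (QuotientGroup.eq_one_iff _).1
      (commutatorElement_eq_one_iff_mul_comm.2 (h _ ⟨y, hy, rfl⟩))
  · rintro h _ ⟨y, hy, rfl⟩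
    exact commutatorElement_eq_one_iff_mul_comm.1 ((QuotientGroup.eq_one_iff _).2 (h y hy))

/-- The linear characters of `P` that are trivial on `B`. -/
def triv (P B : Subgroup G) : Subgroup (Lin P) where
  carrier := {ν | ∀ x : P, (x : G) ∈ B → ν.hom x = 1}
  mul_mem' {a b} ha hb x hx := by
    change a.hom x * b.hom x = 1
    rw [ha x hx, hb x hx, mul_one]
  one_mem' _ _ := rfl
  inv_mem' {a} ha x hx := by
    change (a.hom x)⁻¹ = 1
    rw [ha x hx, inv_one]

theorem relIndex_le_card_triv [Finite G] {P B : Subgroup G} [B.Normal] (h : ⁅P, P⁆ ≤ B) :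
    B.relIndex P ≤ Nat.card (triv P B) := by
  have h1 : ∀ a b : P ⧸ B.subgroupOf P, a * b = b * a := fun a b => by
    obtain ⟨a, rfl⟩ := QuotientGroup.mk_surjective a
    obtain ⟨b, rfl⟩ := QuotientGroup.mk_surjective b
    exact commutatorElement_eq_one_iff_mul_comm.1 ((QuotientGroup.eq_one_iff ⁅a, b⁆).2
      (h (commutator_mem_commutator a.2 b.2)))
  rw [relIndex, index, ← card_monoidHom_units_of_comm h1]
  refine Nat.card_le_card_of_injective (fun μ => ⟨μ.comp (QuotientGroup.mk' _), fun x hx => ?_⟩)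
    fun a b e => MonoidHom.ext fun x => ?_
  · change μ (x : P ⧸ B.subgroupOf P) = 1
    rw [(QuotientGroup.eq_one_iff x).2 hx, map_one]
  · obtain ⟨x, rfl⟩ := QuotientGroup.mk_surjective x
    exact congrArg (fun ν : triv P B => ν.1.hom x) e

variable [Finite G] {p q r : ℕ} [hp : Fact p.Prime] [hq : Fact q.Prime] [hr : Fact r.Prime]
  {P : Subgroup G} [hPn : P.Normal]

omit hr in
/-- The derived subgroup is smaller than the section on which `Q` acts fixed-point-freely. -/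
theorem card_lt (hP : IsPGroup p P) (hpq : p ≠ q) (Q : Sylow q G) [((Q : Subgroup G) ⊔ P).Normal]
    (nq : ¬ PCl q G) (h1 : (Q : Subgroup G) ≤ centralizer ((⁅P, P⁆ : Subgroup G) : Set G))
    (h2 : ¬ Rho G (p * q)) {B : Subgroup G}
    (hB : ∀ x, x ∈ B ↔ x ∈ P ∧ ∀ y ∈ (Q : Subgroup G) ⊔ P, ⁅y, x⁆ ∈ ⁅P, P⁆) :
    Nat.card (⁅P, P⁆ : Subgroup G) < B.relIndex P := by
  have hN : ⁅P, P⁆ ≤ P := commutator_le_left _ _
  have hc := Sq.coprime_of_isPGroup hq.out hp.out hpq.symm Q.isPGroup' hP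
  have hc' := hc.coprime_dvd_right (card_dvd_of_le hN)
  have h3 : (Q : Subgroup G) ≤ centralizer (B : Set G) :=
    Coprime.le_centralizer_of_commutator_le hc' (by
      rw [commutator_comm]
      exact commutator_le.2 fun y hy x hx => ((hB x).1 hx).2 y (mem_sup_left hy)) h1
  have h4 : ⁅⁅P, (Q : Subgroup G)⁆, B⁆ = ⊥ := commutator_commutator_eq_bot_of_rotate
    (by rw [commutator_eq_bot_iff_le_centralizer.2 h3, commutator_bot_left])
    (commutator_eq_bot_iff_le_centralizer.2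
      ((commutator_mono (fun x hx => ((hB x).1 hx).1) le_rfl).trans (le_centralizer_iff.1 h1)))
  have h0 : ¬ ⁅P, (Q : Subgroup G)⁆ ≤ B := fun h5 => by
    have h6 : ⁅⁅P, (Q : Subgroup G)⁆, (Q : Subgroup G)⁆ = ⊥ :=
      commutator_eq_bot_iff_le_centralizer.2 (h5.trans (le_centralizer_iff.1 h3))
    have h7 : ⁅P, (Q : Subgroup G)⁆ = ⊥ :=
      Coprime.commutator_eq_bot_of_commutator_commutator_eq_bot
        (by rw [normalizer_eq_top]; exact le_top) hc h6
    exact nq ((pCl_iff_normal Q).2 (Deg.normal_of_normal_sup Q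
      ((commutator_eq_bot_iff_le_centralizer.1 h7).trans (centralizer_le_normalizer _))))
  obtain ⟨a, h5, h6⟩ := SetLike.not_le_iff_exists.1 h0
  let a' : P := ⟨a, commutator_le_left _ _ h5⟩
  have h7 : ∀ θ, IsIrrCharacter P θ → charDegree θ ≠ 1 → (Q : Subgroup G) ⊔ P ≤ inertia P θ :=
    fun θ hθ h => sup_le_of_not_dvd Q (le_inertia hθ.isClassFunction) fun hd =>
      h2 (rho_of_index hθ ((Nat.coprime_primes hp.out hq.out).2 hpq)
        ((dvd_deg hP hθ h).mul_left _) (hd.mul_right _))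
  have h8 : ∀ θ, IsIrrCharacter P θ → ¬ commutator P ≤ charKer θ → θ a' = 0 := fun θ hθ h => by
    rw [Deg.commutator_le_charKer_iff hθ] at h
    by_contra h0
    refine h6 ((hB a).2 ⟨a'.2, fun y hy => ?_⟩)
    refine (mem_comm (x := ⟨y * a * y⁻¹, hPn.conj_mem a a'.2 y⟩ * a'⁻¹)).1
      ((mem_commutator_iff_forall_monoidHom _).2 fun β => ?_)
    have h9 := mem_inertia'.1 (h7 _ (irr_mul_lin hθ β)
      ((deg_mul_lin hθ.isCharacter β).trans_ne h) hy) a'
    rw [Pi.mul_apply, Pi.mul_apply, mem_inertia'.1 (h7 θ hθ h hy) a'] at h9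
    rw [map_mul, map_inv, mul_inv_eq_one]
    exact Units.ext (mul_left_cancel₀ h0 h9)
  have h9 := card_le_index fun n hn => isConj_mul_of_forall_vanish h8 (n := n) hn
  rw [← P.map_subtype_commutator, card_map_of_injective P.subtype_injective]
  refine h9.trans_lt (index_strictAnti (lt_of_le_of_ne (fun b hb => ?_) fun e => h6 ?_))
  · exact mem_centralizer_singleton_iff.2 (Subtype.ext
      (commutator_eq_bot_iff_le_centralizer.1 h4 h5 b hb))
  · exact (e.ge (mem_centralizer_singleton_iff.2 rfl) : a' ∈ B.subgroupOf P)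

variable [Group.IsSolvable G]

theorem mixed (hP : IsPGroup p P) (hi : ¬ p ∣ P.index) (hpq : p ≠ q) (hqr : q ≠ r)
    (hZ : P ≤ centralizer ((⁅P, P⁆ : Subgroup G) : Set G)) (h0 : ⁅P, P⁆ ≠ ⊥) (nq : ¬ PCl q G)
    (a1 : ¬ Rho G (p * q)) (a2 : ¬ Rho G (q * r))
    (bq : NP (dq ⁅P, P⁆ P fun _ => hZ.trans (centralizer_le_inertia _)) q)
    (br : NP (dq ⁅P, P⁆ P fun _ => hZ.trans (centralizer_le_inertia _)) r)
    (cq : ∀ g : G ⧸ P, (∃ k : ℕ, g ^ q ^ k = 1) →
      dq ⁅P, P⁆ P (fun _ => hZ.trans (centralizer_le_inertia _)) g = 1)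
    {g : G ⧸ P} (c1 : ∃ k : ℕ, g ^ r ^ k = 1)
    (c2 : dq ⁅P, P⁆ P (fun _ => hZ.trans (centralizer_le_inertia _)) g ≠ 1) : False := by
  obtain ⟨Q⟩ : Nonempty (Sylow q G) := inferInstance
  have hN : ⁅P, P⁆ ≤ P := commutator_le_left _ _
  have hc : ∀ a ∈ ⁅P, P⁆, ∀ b ∈ ⁅P, P⁆, a * b = b * a := fun a ha b hb => hZ (hN hb) a ha
  have := nontrivial_lin h0 hc
  have := normal_sup_of_pCl (bq.pCl cq) Q
  have h1 := le_centralizer_of_dq _ hc cq Q.isPGroup'
  have h2 := card_lt hP hpq Q nq h1 a1 fun _ => mem_cm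
  set B := cm P ((Q : Subgroup G) ⊔ P) ⁅P, P⁆ with hB
  have h3 : P ⊓ centralizer ((Q : Subgroup G) : Set G) ≤ B := fun x hx => mem_cm.2 ⟨hx.1, by
    have : (Q : Subgroup G) ⊔ P ≤ (centralizer {(x : G ⧸ ⁅P, P⁆)}).comap (QuotientGroup.mk' _) :=
      sup_le (fun y hy => mem_centralizer_singleton_iff.2 (congrArg QuotientGroup.mk (hx.2 y hy)))
        fun y hy => mem_centralizer_singleton_iff.2 (commutatorElement_eq_one_iff_mul_comm.1
          ((QuotientGroup.eq_one_iff ⁅y, x⁆).2 (commutator_mem_commutator hy hx.1)))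
    exact fun y hy => (QuotientGroup.eq_one_iff _).1 (commutatorElement_eq_one_iff_mul_comm.2
      (mem_centralizer_singleton_iff.1 (this hy)))⟩
  replace h2 := h2.trans_le (relIndex_le_card_triv
    ((le_inf hN (le_centralizer_iff.1 h1)).trans h3))
  have h4 : ∀ lam : Lin P, P ≤ inertia P (lin lam) := fun lam =>
    le_inertia (lin_irr lam).isClassFunction
  have h5 : ∀ s, ∀ ν ∈ triv P B, dq P P h4 s ν ∈ triv P B := fun s ν hν x hx => by
    obtain ⟨s, rfl⟩ := QuotientGroup.mk_surjective s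
    exact (dl_hom s ν x).trans (hν _ ((inferInstance : B.Normal).conj_mem' _ hx s))
  have h6 : NP (restrictAut (dq P P h4) (triv P B) h5) r :=
    np_of ((Nat.coprime_primes hq.out hr.out).2 hqr) a2 fun ν hν => by
      refine ⟨lin ν.1, lin_irr _, Deg.exists_ext_inertia_of_coprime (lin_irr _)
        (coprime_index hP hi), Dvd.dvd.mul_right ?_ _, fun g => (dq_eq_iff h4).trans
          ⟨fun h => Subtype.ext h, fun h => congrArg Subtype.val h⟩⟩
      by_contra h
      refine hν (Subtype.ext (MonoidHom.ext fun x => ?_))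
      obtain ⟨y, hy, c, hc, e⟩ := Coprime.exists_commutator_mul_centralizer (A := Q) (K := P)
        (by rw [normalizer_eq_top]; exact le_top)
        (Sq.coprime_of_isPGroup hq.out hp.out hpq.symm Q.isPGroup' hP) (Or.inl inferInstance) x.2
      rw [show x = ⟨y, commutator_le_left _ _ hy⟩ * ⟨c, hc.1⟩ from Subtype.ext e.symm]
      change ν.1.hom _ = 1
      rw [map_mul, ν.2 ⟨c, hc.1⟩ (h3 hc), hom_eq_one_of_le (sup_le_of_not_dvd Q (h4 _) h)
        (commutator_mono le_rfl le_sup_left hy), mul_one]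
  have : Nontrivial (triv P B) := Finite.one_lt_card_iff_nontrivial.1
    (((one_lt_card_iff_ne_bot _).2 h0).trans h2)
  have h7 := br.card_eq h6 (br.one_lt c1 c2) (A := ⊤) (B := ⊤) (fun _ _ _ => trivial)
    (fun _ _ _ => trivial) ((isPGroup_lin (hP.to_le hN)).to_subgroup _)
    (((isPGroup_lin hP).to_subgroup _).to_subgroup _) top_ne_bot top_ne_bot
  rw [card_top, card_top] at h7
  have h8 : Nat.card (Lin (⁅P, P⁆ : Subgroup G)) = Nat.card (⁅P, P⁆ : Subgroup G) :=
    card_monoidHom_units_of_comm fun a b => Subtype.ext (hc a a.2 b b.2)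
  omega

theorem rho_of_normal (hP : IsPGroup p P) (hi : ¬ p ∣ P.index) (hpq : p ≠ q) (hpr : p ≠ r)
    (hqr : q ≠ r) (hM : IsMinNormal ⁅P, P⁆) (nq : ¬ PCl q G) (nr : ¬ PCl r G)
    (a1 : ¬ Rho G (p * q)) (a2 : ¬ Rho G (p * r)) : Rho G (q * r) := by
  by_contra a3
  have hN : ⁅P, P⁆ ≤ P := commutator_le_left _ _
  have hZ : P ≤ centralizer ((⁅P, P⁆ : Subgroup G) : Set G) :=
    le_centralizer_iff.1 (commutator_eq_bot_iff_le_centralizer.1
      (commutator_eq_bot_of_minimal_normal_of_isNilpotent hM.min hP.isNilpotent))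
  obtain ⟨h1, h2⟩ := hM.elementary_of_isPGroup (hP.to_le hN)
  have := nontrivial_lin hM.ne_bot fun a ha b hb => hZ (hN hb) a ha
  have : ElemAb p (Lin (⁅P, P⁆ : Subgroup G)) := elemAb_lin fun x => Subtype.ext (h2 x x.2)
  have bq := np_comm hP hi hpq hZ a1
  have br := np_comm hP hi hpr hZ a2
  by_cases cq : ∀ g : G ⧸ P, (∃ k : ℕ, g ^ q ^ k = 1) →
      dq ⁅P, P⁆ P (fun _ => hZ.trans (centralizer_le_inertia _)) g = 1 <;>
    by_cases cr : ∀ g : G ⧸ P, (∃ k : ℕ, g ^ r ^ k = 1) →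
      dq ⁅P, P⁆ P (fun _ => hZ.trans (centralizer_le_inertia _)) g = 1
  · exact a3 (rho_of_pCl_quot hP hpq hpr hqr nq nr (bq.pCl cq) (br.pCl cr))
  · push Not at cr
    obtain ⟨g, c1, c2⟩ := cr
    exact mixed hP hi hpq hqr hZ hM.ne_bot nq a1 a3 bq br cq c1 c2
  · push Not at cq
    obtain ⟨g, c1, c2⟩ := cq
    exact mixed hP hi hpr hqr.symm hZ hM.ne_bot nr a2 (fun h => a3 h.comm) br bq cr c1 c2
  · push Not at cq cr
    obtain ⟨x, c1, c2⟩ := cq
    obtain ⟨y, c3, c4⟩ := cr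
    exact a3 ((rho_of_np (t := p) hqr bq br c1 c2 c3 c4).of_surj _
      (QuotientGroup.mk'_surjective P))

end

theorem three_primes (G : Type u) [Group G] [Finite G] : Group.IsSolvable G →
    ∀ (p q r : ℕ) [Fact p.Prime] [Fact q.Prime] [Fact r.Prime], p ≠ q → q ≠ r → p ≠ r →
      Rho G p → Rho G q → Rho G r → ¬ Rho G (p * q) → ¬ Rho G (p * r) → Rho G (q * r) := by
  refine card_induction (P := fun G _ _ => Group.IsSolvable G →
    ∀ (p q r : ℕ) [Fact p.Prime] [Fact q.Prime] [Fact r.Prime], p ≠ q → q ≠ r → p ≠ r →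
      Rho G p → Rho G q → Rho G r → ¬ Rho G (p * q) → ¬ Rho G (p * r) → Rho G (q * r)) ?_ G
  intro G _ _ ih _
  have ih' : ∀ (N : Subgroup G) [N.Normal], N ≠ ⊥ →
      ∀ (p q r : ℕ) [Fact p.Prime] [Fact q.Prime] [Fact r.Prime], p ≠ q → q ≠ r → p ≠ r →
      Rho (G ⧸ N) p → Rho (G ⧸ N) q → Rho (G ⧸ N) r → ¬ Rho G (p * q) → ¬ Rho G (p * r) →
      Rho G (q * r) := fun N _ h p q r _ _ _ a b c d e f i j =>
    (ih (G ⧸ N) (card_quotient_lt h) inferInstance p q r a b c d e f
      (fun k => i (k.of_surj _ (QuotientGroup.mk'_surjective N)))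
      fun k => j (k.of_surj _ (QuotientGroup.mk'_surjective N))).of_surj _
        (QuotientGroup.mk'_surjective N)
  have two : ∀ (p q r : ℕ) [Fact p.Prime] [Fact q.Prime] [Fact r.Prime], p ≠ q → q ≠ r → p ≠ r →
      Rho G p → Rho G q → Rho G r → ¬ Rho G (p * q) → ¬ Rho G (p * r) → PCl p G →
      Rho G (q * r) := by
    intro p q r _ _ _ a b c d e f i j k
    obtain ⟨P⟩ : Nonempty (Sylow p G) := inferInstance
    have := (pCl_iff_normal P).1 k
    have nq := not_pCl_of_normal P.isPGroup' P.not_dvd_index a d e i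
    have nr := not_pCl_of_normal P.isPGroup' P.not_dvd_index c d f j
    obtain ⟨N, h1, h2⟩ := exists_isMinNormal_le ⁅(P : Subgroup G), (P : Subgroup G)⁆ fun h =>
      not_rho_of_comm P (fun x hx y hy =>
        (commutator_eq_bot_iff_le_centralizer.1 h hx y hy).symm) d
    have := h1.normal
    by_cases h3 : Rho (G ⧸ N) p
    · exact ih' N h1.ne_bot p q r a b c h3 (rho_of_not_pCl (not_pCl_quot P.isPGroup' a h2 nq))
        (rho_of_not_pCl (not_pCl_quot P.isPGroup' c h2 nr)) i j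
    · obtain rfl : N = ⁅(P : Subgroup G), (P : Subgroup G)⁆ :=
        h2.antisymm (commutator_le.2 fun x hx y hy => (QuotientGroup.eq_one_iff _).1
          (commutatorElement_eq_one_iff_mul_comm.2 (Deg.ito_comm (IsPSolvable.of_isSolvable p _)
            (fun χ hχ hd => h3 ⟨χ, hχ, hd⟩) (P.mapSurjective (QuotientGroup.mk'_surjective N))
            _ ⟨x, hx, rfl⟩ _ ⟨y, hy, rfl⟩)))
      exact rho_of_normal P.isPGroup' P.not_dvd_index a c b h1 nq nr i j
  intro p q r _ _ _ a b c d e f i j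
  by_contra k
  by_cases np : PCl p G
  · exact k (two p q r a b c d e f i j np)
  by_cases nq : PCl q G
  · exact j (two q p r a.symm c b e d f (fun h => i h.comm) k nq)
  by_cases nr : PCl r G
  · exact i (two r p q c.symm a b.symm f d e (fun h => j h.comm) (fun h => k h.comm) nr)
  have : Nontrivial G := by
    by_contra h
    rw [not_nontrivial_iff_subsingleton] at h
    exact np fun x _ => Subsingleton.elim 1 x ▸ one_mem _
  obtain ⟨M, hM⟩ := exists_isMinNormal G
  have := hM.normal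
  by_cases mp : PCl p (G ⧸ M)
  · exact k (rho_of_pCl hM b a c nq nr np mp i j)
  by_cases mq : PCl q (G ⧸ M)
  · exact j (rho_of_pCl hM c a.symm b np nr nq mq (fun h => i h.comm) k)
  by_cases mr : PCl r (G ⧸ M)
  · exact i (rho_of_pCl hM a c.symm b.symm np nq nr mr (fun h => j h.comm) fun h => k h.comm)
  exact k (ih' M hM.ne_bot p q r a b c (rho_of_not_pCl mp) (rho_of_not_pCl mq)
    (rho_of_not_pCl mr) i j)

end Cfsg.Lib.Pal
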