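import Cfsg.Agent.Pal.Key
import Cfsg.Agent.Solv.MinNormal

/-! Three primes with non-normal Sylow subgroups. -/

set_option autoImplicit false

namespace Cfsg.Lib.Pal

open Subgroup Cfsg.Lib.Solv Cfsg.Lib.Char Cfsg.Lib.Char.RelG

variable {G : Type*} [Group G]

/-- The action of a quotient group on the linear characters of a normal subgroup. -/
noncomputable def dq (M N : Subgroup G) [M.Normal] [N.Normal]
    (h : ∀ lam : Lin M, N ≤ inertia M (lin lam)) : G ⧸ N →* MulAut (Lin M) :=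
  QuotientGroup.lift N (dl M) fun _ hg => MulEquiv.ext fun lam => dl_eq_iff.2 (h lam hg)

theorem dq_eq_iff {M N : Subgroup G} [M.Normal] [N.Normal]
    (h : ∀ lam : Lin M, N ≤ inertia M (lin lam)) {g : G} {lam : Lin M} :
    g ∈ inertia M (lin lam) ↔ dq M N h g lam = lam := dl_eq_iff.symm

theorem pow_mk {N : Subgroup G} [N.Normal] {l : ℕ} {S : Subgroup G} (hS : IsPGroup l S) {g : G}
    (hg : g ∈ S) : ∃ k : ℕ, (g : G ⧸ N) ^ l ^ k = 1 := by
  obtain ⟨k, hk⟩ := hS ⟨g, hg⟩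
  exact ⟨k, by rw [← QuotientGroup.mk_pow, show g ^ l ^ k = 1 from congrArg Subtype.val hk]; rfl⟩

variable [Finite G]

theorem nontrivial_lin {M : Subgroup G} (h0 : M ≠ ⊥) (hc : ∀ a ∈ M, ∀ b ∈ M, a * b = b * a) :
    Nontrivial (Lin M) := by
  rw [← Finite.one_lt_card_iff_nontrivial]
  change 1 < Nat.card (M →* ℂˣ)
  rw [card_monoidHom_units_of_comm fun a b : M => Subtype.ext (hc a a.2 b b.2)]
  exact (one_lt_card_iff_ne_bot _).2 h0

theorem le_centralizer_of_dq {M N : Subgroup G} [M.Normal] [N.Normal]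
    (h : ∀ lam : Lin M, N ≤ inertia M (lin lam)) (hc : ∀ a ∈ M, ∀ b ∈ M, a * b = b * a)
    {l : ℕ} (h1 : ∀ g : G ⧸ N, (∃ k : ℕ, g ^ l ^ k = 1) → dq M N h g = 1) {S : Subgroup G}
    (hS : IsPGroup l S) : S ≤ centralizer (M : Set G) := fun g hg a ha =>
  (Deg.mem_centralizer_of_forall_mem_inertia hc (fun lam => (dq_eq_iff h).2 (by
    rw [h1 g (pow_mk hS hg)]; rfl)) a ha).symm

/-- A minimal normal subgroup on which a Sylow subgroup that is normal modulo it acts. -/
theorem compl_of_pCl {M : Subgroup G} [M.Normal] (hM : IsMinNormal M)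
    (hc : ∀ a ∈ M, ∀ b ∈ M, a * b = b * a) {r : ℕ} [Fact r.Prime] (h0 : ¬ PCl r G)
    (h1 : PCl r (G ⧸ M)) : (∃ U : Subgroup G, IsComplement' M U) ∧
      ∀ lam : Lin M, lam ≠ 1 → r ∣ (inertia M (lin lam)).index := by
  obtain ⟨R⟩ : Nonempty (Sylow r G) := inferInstance
  have h2 := normal_sup_of_pCl h1 R
  have h3 : ¬ M ≤ normalizer ((R : Subgroup G) : Set G) := fun h =>
    h0 ((pCl_iff_normal R).2 (Deg.normal_of_normal_sup R h))
  have h4 : normalizer ((R : Subgroup G) : Set G) ⊔ M = ⊤ := by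
    have : normalizer ((R : Subgroup G) : Set G) ⊔ ((R : Subgroup G) ⊔ M) = ⊤ :=
      R.normalizer_sup_eq_top' (le_sup_left (b := M))
    rwa [← sup_assoc, sup_eq_left.2 le_normalizer] at this
  constructor
  · have h5 : (M ⊓ normalizer ((R : Subgroup G) : Set G)).Normal := by
      rw [← normalizer_eq_top_iff, eq_top_iff, ← h4]
      refine sup_le (fun g hg => mem_normalizer_fintype fun x hx => ⟨?_, ?_⟩)
        fun g hg => mem_normalizer_fintype fun x hx => ?_
      · exact ‹M.Normal›.conj_mem x hx.1 g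
      · exact (normalizer _).mul_mem ((normalizer _).mul_mem hg hx.2) ((normalizer _).inv_mem hg)
      · rwa [hc g hg x hx.1, mul_inv_cancel_right]
    refine ⟨normalizer ((R : Subgroup G) : Set G), isComplement'_of_disjoint_and_mul_eq_univ
      (disjoint_iff.2 (hM.eq_bot_of_lt (inf_lt_left.2 h3))) ?_⟩
    rw [← normal_mul, sup_comm, h4, coe_top]
  · intro lam hl
    by_contra h5
    have h6 := sup_le_of_not_dvd R (le_inertia (lin_irr lam).isClassFunction) h5
    have h7 : ⁅M, (R : Subgroup G) ⊔ M⁆ = M := hM.eq_of_le (fun h => h3 fun g hg =>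
      centralizer_le_normalizer _ fun x hx =>
        (commutator_eq_bot_iff_le_centralizer.1 h hg x (mem_sup_left hx))) (commutator_le_left _ _)
    exact hl (MonoidHom.ext fun x => hom_eq_one_of_le h6 (h7.symm ▸ x.2))

theorem rho_of_pCl [Group.IsSolvable G] {M : Subgroup G} [M.Normal] (hM : IsMinNormal M)
    {p q r : ℕ} [hp : Fact p.Prime] [hq : Fact q.Prime] [hr : Fact r.Prime] (hpq : p ≠ q)
    (hrp : r ≠ p) (hrq : r ≠ q) (np : ¬ PCl p G) (nq : ¬ PCl q G) (nr : ¬ PCl r G)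
    (h : PCl r (G ⧸ M)) (a1 : ¬ Rho G (r * p)) (a2 : ¬ Rho G (r * q)) : Rho G (p * q) := by
  obtain ⟨t, ht, h1, h2, -⟩ := hM.elementary
  have := Fact.mk ht
  have hc : ∀ a ∈ M, ∀ b ∈ M, a * b = b * a := fun a ha b hb => setLike_mul_comm ha hb
  obtain ⟨⟨U, hU⟩, h3⟩ := compl_of_pCl hM hc nr h
  have h4 : ∀ lam : Lin M, M ≤ inertia M (lin lam) := fun lam =>
    le_inertia (lin_irr lam).isClassFunction
  have := nontrivial_lin hM.ne_bot hc
  have : ElemAb t (Lin M) := elemAb_lin fun x => Subtype.ext (h2 x x.2)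
  have key : ∀ (l : ℕ) [Fact l.Prime], r ≠ l → ¬ PCl l G → ¬ Rho G (r * l) →
      NP (dq M M h4) l ∧ ∃ g : G ⧸ M, (∃ k : ℕ, g ^ l ^ k = 1) ∧ dq M M h4 g ≠ 1 := by
    intro l hl e n a
    have h5 : NP (dq M M h4) l := np_of ((Nat.coprime_primes hr.out hl.out).2 e) a fun lam h5 =>
      ⟨lin lam, lin_irr lam, ext_of_compl hU lam, (h3 lam h5).mul_right _, fun _ => dq_eq_iff h4⟩
    refine ⟨h5, ?_⟩
    by_contra h6
    push Not at h6
    obtain ⟨S⟩ : Nonempty (Sylow l G) := inferInstance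
    have := normal_sup_of_pCl (h5.pCl h6) S
    exact n ((pCl_iff_normal S).2 (Deg.normal_of_normal_sup S
      ((le_centralizer_iff.1 (le_centralizer_of_dq h4 hc h6 S.isPGroup')).trans
        (centralizer_le_normalizer _))))
  obtain ⟨b1, x, b2, b3⟩ := key p hrp np a1
  obtain ⟨c1, y, c2, c3⟩ := key q hrq nq a2
  exact (rho_of_np (t := t) hpq b1 c1 b2 b3 c2 c3).of_surj _ (QuotientGroup.mk'_surjective M)

end Cfsg.Lib.Pal
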