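import Cfsg.Agent.Pal.One
import Cfsg.Agent.Char.Camina
import Cfsg.Agent.FT.BG1.Coprime

/-! A normal non-abelian Sylow subgroup. -/

set_option autoImplicit false

namespace Cfsg.Lib.Pal

open Subgroup Cfsg.Lib.Solv Cfsg.Lib.Char Cfsg.Lib.Char.RelG

variable {G : Type*} [Group G]

theorem mem_comm {P : Subgroup G} {x : P} : x ∈ commutator P ↔ (x : G) ∈ ⁅P, P⁆ := by
  rw [← P.map_subtype_commutator]
  exact ⟨fun h => ⟨x, h, rfl⟩, fun ⟨y, hy, e⟩ => (Subtype.ext e : y = x) ▸ hy⟩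

variable [Finite G] {p q r : ℕ} [hp : Fact p.Prime] [hq : Fact q.Prime] [hr : Fact r.Prime]

theorem dvd_deg (hG : IsPGroup p G) {θ : G → ℂ} (hθ : IsIrrCharacter G θ)
    (h : charDegree θ ≠ 1) : p ∣ charDegree θ := by
  obtain ⟨k, hk⟩ := IsPGroup.iff_card.1 hG
  obtain ⟨j, -, hj⟩ := (Nat.dvd_prime_pow hp.out).1 (hk ▸ Deg.deg_dvd_card hθ)
  rw [hj] at h ⊢
  exact dvd_pow_self _ fun h0 => h (by rw [h0, pow_zero])

omit hp in
theorem card_le_index {a : G} {N : Subgroup G} (h : ∀ n ∈ N, IsConj a (a * n)) :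
    Nat.card N ≤ (centralizer {a}).index := by
  choose c hc using fun n : N => isConj_iff.1 (h n n.2)
  refine Nat.card_le_card_of_injective (fun n => (c n : G ⧸ centralizer {a})) fun n m e => ?_
  have h1 := mem_centralizer_singleton_iff.1 (QuotientGroup.eq.1 e)
  refine Subtype.ext (mul_left_cancel (a := a) ?_)
  rw [← hc, ← hc, show c m * a * (c m)⁻¹ = c n * ((c n)⁻¹ * c m * a) * (c m)⁻¹ by group, h1]
  group

variable {P : Subgroup G} [hPn : P.Normal]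

omit hPn in
theorem coprime_index (hP : IsPGroup p P) (hi : ¬ p ∣ P.index) : (Nat.card P).Coprime P.index :=
  coprime_card_of_isPGroup hP (hp.out.coprime_iff_not_dvd.2 hi).symm

theorem cent_of_le (hP : IsPGroup p P) (hpq : p ≠ q) {Q : Subgroup G} (hQ : IsPGroup q Q)
    (h : ⁅P, Q⁆ ≤ ⁅P, P⁆) : Q ≤ centralizer (P : Set G) :=
  FT.coprime_cent_Phi (by rw [normalizer_eq_top]; exact le_top)
    (Sq.coprime_of_isPGroup hp.out hq.out hpq hP hQ) (h.trans (commutator_le_map_frattini hP))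

theorem not_pCl_quot (hP : IsPGroup p P) (hpq : p ≠ q) {N : Subgroup G} [N.Normal]
    (hN : N ≤ ⁅P, P⁆) (h : ¬ PCl q G) : ¬ PCl q (G ⧸ N) := fun h1 => by
  obtain ⟨Q⟩ : Nonempty (Sylow q G) := inferInstance
  have h2 := normal_sup_of_pCl h1 Q
  have h3 : N ≤ P := hN.trans (commutator_le_left _ _)
  have h4 : ⁅P, (Q : Subgroup G)⁆ ≤ N := fun x hx => by
    have h5 : x ∈ (Q : Subgroup G) ⊔ N :=
      commutator_le_right P _ (commutator_mono le_rfl le_sup_left hx)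
    obtain ⟨y, hy, n, hn, rfl⟩ := mem_sup_of_normal_right.1 h5
    have h6 : y ∈ P := (P.mul_mem_cancel_right (h3 hn)).1 (commutator_le_left _ _ hx)
    rwa [mem_bot.1 ((disjoint_of_coprime_natCard
      (Sq.coprime_of_isPGroup hp.out hq.out hpq hP Q.isPGroup')).le_bot ⟨h6, hy⟩), one_mul]
  exact h ((pCl_iff_normal Q).2 (Deg.normal_of_normal_sup Q ((h3.trans (le_centralizer_iff.1
    (cent_of_le hP hpq Q.isPGroup' (h4.trans hN)))).trans (centralizer_le_normalizer _))))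

theorem exists_lin_not_le (hP : IsPGroup p P) (hpq : p ≠ q) (Q : Sylow q G)
    [((Q : Subgroup G) ⊔ P).Normal] (h : ¬ PCl q G) :
    fx (dl P) ((Q : Subgroup G) ⊔ P) ≠ ⊤ := fun h1 => by
  have h2 : ⁅P, (Q : Subgroup G)⁆ ≤ ⁅P, P⁆ := fun x hx =>
    (mem_comm (x := ⟨x, commutator_le_left _ _ hx⟩)).1
      ((mem_commutator_iff_forall_monoidHom _).2 fun lam =>
        hom_eq_one_of_le (mem_fx_dl.1 (h1.ge (mem_top lam)))
          (commutator_mono le_rfl le_sup_left hx))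
  exact h ((pCl_iff_normal Q).2 (Deg.normal_of_normal_sup Q ((le_centralizer_iff.1
    (cent_of_le hP hpq Q.isPGroup' h2)).trans (centralizer_le_normalizer _))))

omit [Finite G] hPn in
theorem exists_not_mem {A B : Subgroup G} (hA : A ≠ ⊤) (hB : B ≠ ⊤) : ∃ x, x ∉ A ∧ x ∉ B := by
  obtain ⟨a, ha⟩ := not_forall.1 (mt (eq_top_iff' A).2 hA)
  obtain ⟨b, hb⟩ := not_forall.1 (mt (eq_top_iff' B).2 hB)
  by_cases h1 : a ∈ B
  · by_cases h2 : b ∈ A
    · exact ⟨a * b, fun h => ha ((A.mul_mem_cancel_right h2).1 h),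
        fun h => hb ((B.mul_mem_cancel_left h1).1 h)⟩
    · exact ⟨b, h2, hb⟩
  · exact ⟨a, ha, h1⟩

theorem rho_of_pCl_quot (hP : IsPGroup p P) (hpq : p ≠ q) (hpr : p ≠ r) (hqr : q ≠ r)
    (nq : ¬ PCl q G) (nr : ¬ PCl r G) (h1 : PCl q (G ⧸ P)) (h2 : PCl r (G ⧸ P)) :
    Rho G (q * r) := by
  obtain ⟨Q⟩ : Nonempty (Sylow q G) := inferInstance
  obtain ⟨R⟩ : Nonempty (Sylow r G) := inferInstance
  have := normal_sup_of_pCl h1 Q
  have := normal_sup_of_pCl h2 R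
  obtain ⟨ν, h3, h4⟩ := exists_not_mem (exists_lin_not_le hP hpq Q nq)
    (exists_lin_not_le hP hpr R nr)
  have h5 := le_inertia (lin_irr ν).isClassFunction
  refine rho_of_index (lin_irr ν) ((Nat.coprime_primes hq.out hr.out).2 hqr)
    (Dvd.dvd.mul_right ?_ _) (Dvd.dvd.mul_right ?_ _)
  · by_contra h; exact h3 (mem_fx_dl.2 (sup_le_of_not_dvd Q h5 h))
  · by_contra h; exact h4 (mem_fx_dl.2 (sup_le_of_not_dvd R h5 h))

omit hq hr in
/-- An invariant character over a linear character of the central derived subgroup. -/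
theorem exists_over (hP : IsPGroup p P) (hi : ¬ p ∣ P.index)
    (hZ : P ≤ centralizer ((⁅P, P⁆ : Subgroup G) : Set G)) {lam : Lin (⁅P, P⁆ : Subgroup G)}
    (h1 : lam ≠ 1) : ∃ θ : P → ℂ, IsIrrCharacter P θ ∧ p ∣ charDegree θ ∧
      inertia P θ = inertia ⁅P, P⁆ (lin lam) := by
  classical
  let T := inertia ⁅P, P⁆ (lin lam)
  have hN : ⁅P, P⁆ ≤ P := commutator_le_left _ _
  have hT : P ≤ T := hZ.trans (centralizer_le_inertia _)
  let φ : T →* MulAut P := MulAut.conjNormal.comp T.subtype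
  have := Fintype.ofFinite P
  have := Fintype.ofFinite ((⁅P, P⁆ : Subgroup G).subgroupOf P)
  have h2 := (lin_irr lam).subgroupOf hN
  have hn : (⁅P, P⁆ : Subgroup G).Normal := inferInstance
  obtain ⟨θ, h3, h4, h5⟩ := exists_isInv_over_of_comm (φ := φ) ((⁅P, P⁆ : Subgroup G).subgroupOf P)
    (fun s g hg => hn.conj_mem _ hg s) (P.subgroupOf T) (fun s hs => ⟨⟨s, hs⟩, fun g => rfl⟩)
    (((coprime_index hP hi).symm.coprime_dvd_left (relIndex_dvd_index_of_normal P T)).coprime_dvd_right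
      (index_dvd_card _)) (fun x hx => mem_comm.1 hx) h2
    fun s n => mem_inertia'.1 s.2 ⟨(n : P), n.2⟩
  have h6 := congrFun (clifford_res_invariant h3 h2
    (fun g n => mem_inertia'.1 (hT g.2) ⟨(n : P), n.2⟩) h5)
  simp only [Pi.smul_apply, smul_eq_mul] at h6
  refine ⟨θ, h3, dvd_deg hP h3 fun h7 => h1 (lin_injective (funext fun n => ?_)),
    le_antisymm (fun g hg => mem_inertia'.2 fun n => mul_left_cancel₀ h5 ?_)
      fun g hg => mem_inertia'.2 (h4 ⟨g, hg⟩)⟩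
  · have h8 := apply_of_mem_charKer ((Deg.commutator_le_charKer_iff h3).2 h7
      ((mem_comm (x := (⟨n, hN n.2⟩ : P))).2 n.2))
    have h9 := h6 ⟨⟨n, hN n.2⟩, n.2⟩
    have h10 := h6 1
    refine mul_left_cancel₀ h5 (h9.symm.trans (h8.trans (h10.trans ?_)))
    congr 1
    exact congrArg Units.val (map_one lam.hom)
  · exact (h6 ⟨⟨_, hN (hn.conj_mem n n.2 g)⟩, hn.conj_mem n n.2 g⟩).symm.trans
      ((mem_inertia'.1 hg ⟨n, hN n.2⟩).trans (h6 ⟨⟨n, hN n.2⟩, n.2⟩))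

variable [Group.IsSolvable G]

omit hr in
theorem not_pCl_of_normal (hP : IsPGroup p P) (hi : ¬ p ∣ P.index) (hpq : p ≠ q) (h1 : Rho G p)
    (h2 : Rho G q) (h3 : ¬ Rho G (p * q)) : ¬ PCl q G := fun h => by
  obtain ⟨Q⟩ : Nonempty (Sylow q G) := inferInstance
  have hQ := (pCl_iff_normal Q).1 h
  obtain ⟨θ, h4, h5⟩ : ∃ θ, IsIrrCharacter P θ ∧ charDegree θ ≠ 1 := by
    by_contra h4
    push Not at h4
    have : ((hP.toSylow hi : Sylow p G) : Subgroup G).Normal := hPn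
    exact not_rho_of_comm (hP.toSylow hi) (fun a ha b hb => congrArg Subtype.val
      (Deg.comm_of_forall_deg_eq_one h4 ⟨a, ha⟩ ⟨b, hb⟩)) h1
  obtain ⟨S, -, -, h6⟩ := exists_sylow h4
    (Deg.exists_ext_inertia_of_coprime h4 (coprime_index hP hi))
    ((Nat.coprime_primes hp.out hq.out).2 hpq) ((dvd_deg hP h4 h5).mul_left _) h3
  have := hQ.map _ (QuotientGroup.mk'_surjective P)
  have h7 := (Q.isPGroup'.map (QuotientGroup.mk' P)).le_sylow_of_normal S
  refine not_rho_of_comm Q (fun a ha b hb => commutatorElement_eq_one_iff_mul_comm.1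
    (mem_bot.1 ((disjoint_of_coprime_natCard
      (Sq.coprime_of_isPGroup hp.out hq.out hpq hP Q.isPGroup')).le_bot ⟨?_, ?_⟩))) h2
  · exact (QuotientGroup.eq_one_iff _).1 (commutatorElement_eq_one_iff_mul_comm.2
      (h6 _ (h7 ⟨a, ha, rfl⟩) _ (h7 ⟨b, hb, rfl⟩)))
  · exact (Q : Subgroup G).mul_mem ((Q : Subgroup G).mul_mem ((Q : Subgroup G).mul_mem ha hb)
      ((Q : Subgroup G).inv_mem ha)) ((Q : Subgroup G).inv_mem hb)

omit hr in
theorem np_comm (hP : IsPGroup p P) (hi : ¬ p ∣ P.index) (hpq : p ≠ q)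
    (hZ : P ≤ centralizer ((⁅P, P⁆ : Subgroup G) : Set G)) (h : ¬ Rho G (p * q)) :
    NP (dq ⁅P, P⁆ P fun _ => hZ.trans (centralizer_le_inertia _)) q :=
  np_of ((Nat.coprime_primes hp.out hq.out).2 hpq) h fun lam h1 => by
    obtain ⟨θ, h2, h3, h4⟩ := exists_over hP hi hZ h1
    exact ⟨θ, h2, Deg.exists_ext_inertia_of_coprime h2 (coprime_index hP hi), h3.mul_left _,
      fun g => h4 ▸ dq_eq_iff _⟩

end Cfsg.Lib.Pal
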